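import Groth.Prelude.Def_W4c2conddiscmodels
import Mathlib.RingTheory.Coprime.Lemmas
import Mathlib.RingTheory.Int.Basic
import Mathlib.Tactic.Linarith
import Mathlib.Tactic.Ring
import Mathlib.Tactic.FieldSimp
import Mathlib.Tactic.LinearCombination

/-!
# Continuants of Hirzebruch–Jung continued fractions
-/

namespace Groth.Agent.HJLib

/-- Numerator and denominator of a Hirzebruch–Jung fraction. -/
def cont : List ℤ → ℤ × ℤ
  | [] => (1, 0)
  | b :: t => (b * (cont t).1 - (cont t).2, (cont t).1)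

lemma cont_spec : ∀ L : List ℤ, (∀ x ∈ L, 2 ≤ x) →
    0 ≤ (cont L).2 ∧ (cont L).2 < (cont L).1 ∧ IsCoprime (cont L).1 (cont L).2 ∧
      HJFrac.hjVal L = ((cont L).1 : ℚ) / (cont L).2
  | [], _ => by simp [cont, HJFrac.hjVal, isCoprime_one_left]
  | b :: t, h => by
    obtain ⟨h0, h1, hc, hv⟩ := cont_spec t (fun x hx => h x (List.mem_cons_of_mem _ hx))
    have hb : 2 ≤ b := h b List.mem_cons_self
    refine ⟨?_, ?_, ?_, ?_⟩
    · show 0 ≤ (cont t).1; omega
    · show (cont t).1 < b * (cont t).1 - (cont t).2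
      nlinarith
    · show IsCoprime (b * (cont t).1 - (cont t).2) (cont t).1
      obtain ⟨u, v, huv⟩ := hc
      exact ⟨-v, u + v * b, by linear_combination huv⟩
    · show (b : ℚ) - (HJFrac.hjVal t)⁻¹ =
        ((b * (cont t).1 - (cont t).2 : ℤ) : ℚ) / ((cont t).1 : ℚ)
      have hp : ((cont t).1 : ℚ) ≠ 0 := by exact_mod_cast (show (cont t).1 ≠ 0 by omega)
      rw [hv, inv_div]
      push_cast
      field_simp

/-- The tail `[b i, …, b l]`. -/
def tl (b : ℕ → ℤ) (l i : ℕ) : List ℤ := (List.range (l + 1 - i)).map fun j => b (i + j)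

lemma tl_end (b : ℕ → ℤ) (l : ℕ) : tl b l (l + 1) = [] := by simp [tl]

lemma tl_cons (b : ℕ → ℤ) {l i : ℕ} (h : i ≤ l) : tl b l i = b i :: tl b l (i + 1) := by
  unfold tl
  rw [show l + 1 - i = l + 1 - (i + 1) + 1 by omega, List.range_succ_eq_map, List.map_cons,
    List.map_map, Nat.add_zero]
  congr 1
  exact List.map_congr_left fun j _ => congrArg b (by omega)

lemma mem_tl {b : ℕ → ℤ} {l i : ℕ} (hb : ∀ i, 1 ≤ i → i ≤ l → 2 ≤ b i) (hi : 1 ≤ i) :
    ∀ x ∈ tl b l i, 2 ≤ x := by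
  intro x hx
  simp only [tl, List.mem_map, List.mem_range] at hx
  obtain ⟨j, hj, rfl⟩ := hx
  exact hb _ (by omega) (by omega)

lemma snd_eq (b : ℕ → ℤ) {l i : ℕ} (h : i ≤ l) :
    (cont (tl b l i)).2 = (cont (tl b l (i + 1))).1 := by
  rw [tl_cons b h]; rfl

lemma invariant (b μ : ℕ → ℤ) (l : ℕ)
    (hsys : ∀ i, 1 ≤ i → i ≤ l → b i * μ i = μ (i - 1) + μ (i + 1)) :
    ∀ i, i ≤ l →
      (cont (tl b l (i + 1))).1 * μ (i + 1) - (cont (tl b l (i + 1))).2 * μ i = μ (l + 1) := by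
  intro i hi
  induction hi using Nat.decreasingInduction with
  | self => simp [tl_end, cont]
  | of_succ k hk ih =>
    have hs := hsys (k + 1) (by omega) hk
    rw [Nat.add_sub_cancel] at hs
    rw [tl_cons b (show k + 1 ≤ l from hk)]
    simp only [cont]
    linear_combination ih + (cont (tl b l (k + 1 + 1))).1 * hs

lemma eq_cont (b : ℕ → ℤ) (l n r : ℕ) (hl : 1 ≤ l) (hb : ∀ i, 1 ≤ i → i ≤ l → 2 ≤ b i)
    (hr : 0 < r) (hcop : Nat.Coprime r n)
    (hhj : (n : ℚ) / r = HJFrac.hjVal ((List.range l).map fun i => b (i + 1))) :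
    (cont (tl b l 1)).1 = n ∧ (cont (tl b l 1)).2 = r := by
  have e : ((List.range l).map fun i => b (i + 1)) = tl b l 1 := by
    rw [tl, show l + 1 - 1 = l by omega]
    exact List.map_congr_left fun j _ => congrArg b (by omega)
  obtain ⟨h0, h1, hc, hv⟩ := cont_spec _ (mem_tl hb le_rfl)
  rw [e, hv] at hhj
  have hq : 0 < (cont (tl b l 1)).2 := by
    rw [snd_eq b hl]
    obtain ⟨h0', h1', -, -⟩ := cont_spec (tl b l (1 + 1)) (mem_tl hb (by omega))
    omega
  have := Rat.div_int_inj (a := (cont (tl b l 1)).1) (b := (cont (tl b l 1)).2) (c := (n : ℤ))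
    (d := (r : ℤ)) hq (by exact_mod_cast hr) (Int.isCoprime_iff_nat_coprime.mp hc)
    (by simpa using hcop.symm) (by rw [← hhj]; push_cast; rfl)
  exact this

end Groth.Agent.HJLib
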